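import Cfsg.Agent.H494.F22.Lin
import Cfsg.Agent.H494.F22.Dat

/-!
# `Fi22` on 3510 points: kernel checks (helper494)
-/

set_option autoImplicit false
set_option maxRecDepth 100000
set_option exponentiation.threshold 300000

namespace Cfsg.Agent.H494.F22

open Cfsg.Agent.H633.Ore (linL force force_eq ent nthL)
open Cfsg.Agent.H123.Cls (lk allN allN_iff band band_eq band_true)
open Cfsg.Agent.H494.F22.Dat

/-- the packed identity -/
noncomputable def I78 : ℕ := onesF 79 78

theorem I78_chk : allN (fun k => Nat.beq (ent 78 I78 k) (Nat.pow 2 k)) 78 = true := by decide +kernel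

theorem ent_I78 {k : ℕ} (hk : k < 78) : ent 78 I78 k = 2 ^ k :=
  Nat.eq_of_beq_eq_true ((allN_iff _ _).1 I78_chk k hk)

/-- all entries are small -/
noncomputable def lts (N : ℕ) (M : List ℕ) : Bool := List.rec true (fun c _ ih => band (Nat.blt c N) ih) M

theorem lts_iff (N : ℕ) : ∀ M : List ℕ, lts N M = true → ∀ c ∈ M, c < N
  | [], _, c, hc => absurd hc (List.not_mem_nil)
  | a :: M, h, c, hc => by
    have e : lts N (a :: M) = band (Nat.blt a N) (lts N M) := rfl
    rw [e] at h
    obtain ⟨h1, h2⟩ := band_true h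
    rcases List.mem_cons.1 hc with rfl | hc
    · simpa [Nat.blt_eq] using h1
    · exact lts_iff N M h2 c hc

/-- the matrices are matrices -/
noncomputable def okMs (w : ℕ) (ms : List (List ℕ)) : Bool :=
  List.rec true (fun M _ ih => band (Nat.beq M.length w) (band (lts (Nat.pow 2 w) M) ih)) ms

theorem okMs_iff (w : ℕ) : ∀ ms : List (List ℕ), okMs w ms = true → ∀ M ∈ ms, M.length = w ∧ ∀ c ∈ M, c < 2 ^ w
  | [], _, M, hM => absurd hM (List.not_mem_nil)
  | A :: ms, h, M, hM => by
    have e : okMs w (A :: ms) = band (Nat.beq A.length w) (band (lts (Nat.pow 2 w) A) (okMs w ms)) := rfl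
    rw [e] at h
    obtain ⟨h1, h2⟩ := band_true h
    obtain ⟨h3, h4⟩ := band_true h2
    rcases List.mem_cons.1 hM with rfl | hM
    · exact ⟨Nat.eq_of_beq_eq_true h1, lts_iff _ _ h3⟩
    · exact okMs_iff w ms h4 M hM

theorem ms_chk : okMs 78 (G :: ms) = true := by decide +kernel

theorem ms_ok : ∀ M ∈ G :: ms, M.length = 78 ∧ ∀ c ∈ M, c < 2 ^ 78 := okMs_iff 78 _ ms_chk

theorem ms_okM : ∀ M ∈ ms, OkM 78 M := fun M hM =>
  ⟨le_of_eq (ms_ok M (List.mem_cons_of_mem _ hM)).1, (ms_ok M (List.mem_cons_of_mem _ hM)).2⟩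

theorem G_ok : OkM 78 G := ⟨le_of_eq (ms_ok G List.mem_cons_self).1, (ms_ok G List.mem_cons_self).2⟩

/-! ### relations -/

/-- two words of matrices are equal -/
noncomputable def chkRel (r : List ℕ × List ℕ) : Bool :=
  force (onesF 78 78) fun on => force I78 fun I => Nat.beq (wP on ms r.1 I) (wP on ms r.2 I)

theorem actW_of_chk {r : List ℕ × List ℕ} (h : chkRel r = true) {v : ℕ} (hv : v < 2 ^ 78) :
    actW ms r.1 v = actW ms r.2 v := by
  unfold chkRel at h
  rw [force_eq, force_eq] at h
  have h1 := Nat.eq_of_beq_eq_true h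
  rw [onesF_eq (by norm_num)] at h1
  exact actW_eq (by norm_num) ms_okM (fun k hk => ent_I78 hk) h1 hv

/-- repetition of a word -/
def rp (m : ℕ) (u : List ℕ) : List ℕ := (List.replicate m u).flatten

/-- the label of the diagram -/
def lab (x y : ℕ) : ℕ :=
  if x = y then 1
  else if (x, y) ∈ ([(0, 1), (1, 2), (2, 3), (3, 4), (3, 7), (4, 5), (5, 6), (7, 8), (1, 0), (2, 1), (3, 2), (4, 3),
    (7, 3), (5, 4), (6, 5), (8, 7)] : List (ℕ × ℕ)) then 3 else 2

theorem cox_chk : ∀ x < 9, ∀ y < 9, chkRel (rp (lab x y) [x, y], []) = true := by decide +kernel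

theorem sq_chk : ∀ x < 10, chkRel ([x, x], []) = true := by decide +kernel

theorem spider_chk : chkRel (rp 10 [3, 2, 1, 3, 4, 5, 3, 7, 8], []) = true := by decide +kernel

theorem e7a_chk : chkRel (rp 9 [0, 1, 2, 3, 4, 5, 7], []) = true := by decide +kernel

theorem e7b_chk : chkRel (rp 9 [1, 2, 3, 4, 5, 6, 7], []) = true := by decide +kernel

/-- the diagram swap -/
def sw (x : ℕ) : ℕ := ([6, 5, 4, 3, 2, 1, 0, 7, 8] : List ℕ).getD x 0

theorem tau_chk : ∀ x < 9, chkRel ([9, x, 9], [sw x]) = true := by decide +kernel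

/-! ### the tables -/

/-- the table describes the action of the matrix -/
noncomputable def chkTab (t : ℕ) (M : List ℕ) : Bool :=
  force (onesF 78 3510) fun on => force T fun T => force (linP on M T) fun P =>
    allN (fun j => force (lk 12 t j) fun i => band (Nat.blt i 3510) (Nat.beq (ent 78 T i) (ent 78 P j))) 3510

theorem tab_of_chk {t : ℕ} {M : List ℕ} (hM : OkM 78 M) (h : chkTab t M = true) {j : ℕ} (hj : j < 3510) :
    lk 12 t j < 3510 ∧ ent 78 T (lk 12 t j) = linL M (ent 78 T j) := by
  unfold chkTab at h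
  rw [force_eq, force_eq, force_eq, onesF_eq (by norm_num)] at h
  have h1 := (allN_iff _ _).1 h j hj
  rw [force_eq] at h1
  obtain ⟨h2, h3⟩ := band_true h1
  refine ⟨by simpa [Nat.blt_eq] using h2, ?_⟩
  rw [Nat.eq_of_beq_eq_true h3, ent_linP (by norm_num) hj hM]

theorem tab0 : chkTab t0 m0 = true := by decide +kernel
theorem tab1 : chkTab t1 m1 = true := by decide +kernel
theorem tab2 : chkTab t2 m2 = true := by decide +kernel
theorem tab3 : chkTab t3 m3 = true := by decide +kernel
theorem tab4 : chkTab t4 m4 = true := by decide +kernel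
theorem tab5 : chkTab t5 m5 = true := by decide +kernel
theorem tab6 : chkTab t6 m6 = true := by decide +kernel
theorem tab7 : chkTab t7 m7 = true := by decide +kernel
theorem tab8 : chkTab t8 m8 = true := by decide +kernel
theorem tab9 : chkTab t9 m9 = true := by decide +kernel

/-! ### the points are different -/

theorem ord_lt : allN (fun j => Nat.blt (lk 12 ordT j) 3510) 3510 = true := by decide +kernel

theorem ord_mono : allN (fun j => Nat.blt (ent 78 T (lk 12 ordT j)) (ent 78 T (lk 12 ordT (Nat.succ j)))) 3509 = true := by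
  decide +kernel

/-! ### the form -/

/-- a packed matrix is symmetric -/
noncomputable def symP (Q : ℕ) : Bool :=
  allN (fun k => allN (fun l => Nat.beq (Nat.land (Nat.shiftRight Q (Nat.add (Nat.mul 78 k) l)) 1)
    (Nat.land (Nat.shiftRight Q (Nat.add (Nat.mul 78 l) k)) 1)) 78) 78

/-- the matrix `G M` is symmetric -/
noncomputable def chkSym (M : List ℕ) : Bool :=
  force (onesF 78 78) fun on => force (linP on M I78) fun P => force (linP on G P) symP

theorem sym_G : force (linP (onesF 78 78) G I78) symP = true := by decide +kernel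
theorem sym0 : chkSym m0 = true := by decide +kernel
theorem sym1 : chkSym m1 = true := by decide +kernel
theorem sym2 : chkSym m2 = true := by decide +kernel
theorem sym3 : chkSym m3 = true := by decide +kernel
theorem sym4 : chkSym m4 = true := by decide +kernel
theorem sym5 : chkSym m5 = true := by decide +kernel
theorem sym6 : chkSym m6 = true := by decide +kernel
theorem sym7 : chkSym m7 = true := by decide +kernel
theorem sym8 : chkSym m8 = true := by decide +kernel
theorem sym9 : chkSym m9 = true := by decide +kernel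

/-- the masks of the basis points are the bits of `G c` -/
noncomputable def trc (TC : ℕ) : List ℕ → ℕ → Bool :=
  List.rec (fun _ => true) (fun m _ ih k => band
    (allN (fun j => Nat.beq (Nat.land (Nat.shiftRight TC (Nat.add (Nat.mul 78 j) k)) 1)
      (Nat.land (Nat.shiftRight m j) 1)) 3510) (ih (Nat.succ k)))

theorem trc_app (TC : ℕ) : ∀ (A B : List ℕ) (k : ℕ), trc TC A k = true → trc TC B (k + A.length) = true →
    trc TC (A ++ B) k = true
  | [], B, k, _, h => h
  | a :: A, B, k, h, h' => by
    have e : ∀ l : List ℕ, trc TC (a :: l) k = band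
      (allN (fun j => Nat.beq (Nat.land (Nat.shiftRight TC (Nat.add (Nat.mul 78 j) k)) 1)
      (Nat.land (Nat.shiftRight a j) 1)) 3510) (trc TC l (Nat.succ k)) := fun _ => rfl
    rw [e] at h
    rw [List.cons_append, e]
    obtain ⟨h1, h2⟩ := band_true h
    have h3 : trc TC B (Nat.succ k + A.length) = true := by
      have : Nat.succ k + A.length = k + (a :: A).length := by
        rw [List.length_cons, Nat.succ_add, Nat.add_succ]
      rw [this]
      exact h'
    exact band_eq.2 ⟨h1, trc_app TC A B (Nat.succ k) h2 h3⟩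

theorem MkA : force (linP (onesF 78 3510) G T) (fun TC => trc TC (Mk.take 20) 0) = true := by decide +kernel
theorem MkB : force (linP (onesF 78 3510) G T) (fun TC => trc TC ((Mk.drop 20).take 20) 20) = true := by decide +kernel
theorem MkC : force (linP (onesF 78 3510) G T) (fun TC => trc TC (((Mk.drop 20).drop 20).take 20) 40) = true := by
  decide +kernel
theorem MkD : force (linP (onesF 78 3510) G T) (fun TC => trc TC (((Mk.drop 20).drop 20).drop 20) 60) = true := by
  decide +kernel

theorem Mk_chk : force (linP (onesF 78 3510) G T) (fun TC => trc TC Mk 0) = true := by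
  have hA := MkA
  have hB := MkB
  have hC := MkC
  have hD := MkD
  rw [force_eq] at *
  have h3 : trc (linP (onesF 78 3510) G T) ((Mk.drop 20).drop 20) 40 = true := by
    rw [← List.take_append_drop 20 ((Mk.drop 20).drop 20)]
    exact trc_app _ _ _ _ hC hD
  have h2 : trc (linP (onesF 78 3510) G T) (Mk.drop 20) 20 = true := by
    rw [← List.take_append_drop 20 (Mk.drop 20)]
    exact trc_app _ _ _ _ hB h3
  rw [← List.take_append_drop 20 Mk]
  exact trc_app _ _ _ _ hA h2

theorem Mk_len : Mk.length = 78 := rfl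

end Cfsg.Agent.H494.F22
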