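import Cfsg.Agent.H633.Ore.Cov
import Cfsg.Agent.H123.Cls.Cover

/-!
# Packed linear algebra over `F₂` for the kernel (helper494)

A packed table has `n` blocks of `w` bits; `ent w P j` is block `j`. `linP (ones w n) M P` applies the matrix `M` (list
of columns) to all blocks at once.
-/

set_option autoImplicit false

namespace Cfsg.Agent.H494.F22

open Cfsg.Agent.H633.Ore

/-- `linL` in parallel on all blocks -/
noncomputable def linP (on : ℕ) (M : List ℕ) : ℕ → ℕ :=
  List.rec (fun _ => 0)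
    (fun c _ ih P => Nat.xor (Nat.mul (Nat.land P on) c) (force (Nat.shiftRight P 1) ih)) M

theorem linP_nil (on P : ℕ) : linP on [] P = 0 := rfl

theorem linP_cons (on c : ℕ) (M : List ℕ) (P : ℕ) :
    linP on (c :: M) P = ((P &&& on) * c) ^^^ linP on M (P >>> 1) := by
  show Nat.xor (Nat.mul (Nat.land P on) c) (force (Nat.shiftRight P 1) (linP on M)) = _
  rw [force_eq]
  rfl

/-- one bit in every block -/
def ones (w : ℕ) : ℕ → ℕ
  | 0 => 0
  | n + 1 => 2 ^ w * ones w n + 1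

theorem ones_mul (w n : ℕ) : ones w n * (2 ^ w - 1) + 1 = 2 ^ (w * n) := by
  have hw : 0 < 2 ^ w := by positivity
  induction n with
  | zero => simp [ones]
  | succ n ih =>
    obtain ⟨m, hm⟩ : ∃ m, 2 ^ w = m + 1 := ⟨2 ^ w - 1, by omega⟩
    rw [Nat.mul_succ, pow_add, ← ih, ones, hm, Nat.add_sub_cancel]
    ring

/-- the closed form -/
noncomputable def onesF (w n : ℕ) : ℕ := Nat.div (Nat.sub (Nat.pow 2 (Nat.mul w n)) 1) (Nat.sub (Nat.pow 2 w) 1)

theorem onesF_eq {w : ℕ} (hw : 0 < w) (n : ℕ) : onesF w n = ones w n := by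
  have h := ones_mul w n
  have h1 : 2 ≤ 2 ^ w := by
    calc 2 = 2 ^ 1 := rfl
      _ ≤ 2 ^ w := Nat.pow_le_pow_right (by norm_num) hw
  show (2 ^ (w * n) - 1) / (2 ^ w - 1) = _
  rw [← h, Nat.add_sub_cancel]
  exact Nat.mul_div_cancel _ (by omega)

theorem testBit_ones {w : ℕ} (hw : 0 < w) : ∀ n b, (ones w n).testBit b = true ↔ ∃ j < n, b = w * j
  | 0, b => by simp [ones]
  | n + 1, b => by
    have h1 : (1 : ℕ) < 2 ^ w := Nat.one_lt_two_pow (by omega)
    rw [ones, Nat.testBit_two_pow_mul_add _ h1]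
    split_ifs with h
    · rw [Nat.testBit_one_eq_true_iff_self_eq_zero]
      constructor
      · rintro rfl; exact ⟨0, Nat.succ_pos n, by simp⟩
      · rintro ⟨j, _, rfl⟩
        rcases Nat.eq_zero_or_pos j with rfl | hj
        · simp
        · have : w * 1 ≤ w * j := Nat.mul_le_mul_left _ hj
          omega
    · rw [testBit_ones hw n]
      constructor
      · rintro ⟨j, hj, h2⟩
        exact ⟨j + 1, by omega, by rw [Nat.mul_succ]; omega⟩
      · rintro ⟨j, hj, h2⟩
        cases j with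
        | zero => omega
        | succ j => exact ⟨j, by omega, by rw [Nat.mul_succ] at h2; omega⟩

theorem land_ones_succ {w : ℕ} (hw : 0 < w) (n P : ℕ) :
    P &&& ones w (n + 1) = 2 ^ w * ((P >>> w) &&& ones w n) + (P &&& 1) := by
  have h1 : (1 : ℕ) < 2 ^ w := Nat.one_lt_two_pow (by omega)
  have h2 : P &&& 1 < 2 ^ w := lt_of_le_of_lt Nat.and_le_right h1
  apply Nat.eq_of_testBit_eq
  intro b
  rw [Nat.testBit_and, ones, Nat.testBit_two_pow_mul_add _ h1, Nat.testBit_two_pow_mul_add _ h2]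
  split_ifs with h
  · rw [Nat.testBit_and]
  · rw [Nat.testBit_and, Nat.testBit_shiftRight]
    congr 2
    omega

theorem ent_eq (w T i : ℕ) : ent w T i = (T >>> (w * i)) % 2 ^ w := rfl

theorem ent_lt (w T i : ℕ) : ent w T i < 2 ^ w := Nat.mod_lt _ (Nat.two_pow_pos w)

theorem ent_xor (w a b j : ℕ) : ent w (a ^^^ b) j = ent w a j ^^^ ent w b j := by
  rw [ent_eq, ent_eq, ent_eq, Nat.shiftRight_xor_distrib, Nat.xor_mod_two_pow]

theorem ent_zero_left (w j : ℕ) : ent w 0 j = 0 := by rw [ent_eq, Nat.zero_shiftRight, Nat.zero_mod]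

theorem ent_blk_zero {w : ℕ} (a : ℕ) {b : ℕ} (hb : b < 2 ^ w) : ent w (2 ^ w * a + b) 0 = b := by
  rw [ent_eq, Nat.mul_zero, Nat.shiftRight_zero, Nat.mul_add_mod, Nat.mod_eq_of_lt hb]

theorem ent_blk_succ {w : ℕ} (a : ℕ) {b : ℕ} (hb : b < 2 ^ w) (j : ℕ) :
    ent w (2 ^ w * a + b) (j + 1) = ent w a j := by
  rw [ent_eq, ent_eq, Nat.mul_succ, Nat.add_comm (w * j) w, Nat.shiftRight_add, Nat.shiftRight_eq_div_pow _ w,
    Nat.mul_add_div (Nat.two_pow_pos w), Nat.div_eq_of_lt hb, Nat.add_zero]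

theorem ent_mul_ones {w : ℕ} (hw : 0 < w) {c : ℕ} (hc : c < 2 ^ w) : ∀ (n P j : ℕ), j < n →
    ent w ((P &&& ones w n) * c) j = ((P >>> (w * j)) &&& 1) * c
  | 0, P, j, h => absurd h (Nat.not_lt_zero j)
  | n + 1, P, j, h => by
    have hb : (P &&& 1) * c < 2 ^ w := by
      rcases and_one_cases P with h' | h' <;> rw [h']
      · rw [Nat.zero_mul]; positivity
      · rw [Nat.one_mul]; exact hc
    rw [land_ones_succ hw, Nat.add_mul, Nat.mul_assoc]
    cases j with
    | zero => rw [ent_blk_zero _ hb, Nat.mul_zero, Nat.shiftRight_zero]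
    | succ j =>
      rw [ent_blk_succ _ hb, ent_mul_ones hw hc n _ j (by omega), ← Nat.shiftRight_add, Nat.mul_succ,
        Nat.add_comm w]

theorem ent_linP_aux {w : ℕ} (hw : 0 < w) {n j : ℕ} (hj : j < n) : ∀ (M : List ℕ) (P : ℕ), (∀ c ∈ M, c < 2 ^ w) →
    ent w (linP (ones w n) M P) j = linL M (P >>> (w * j))
  | [], P, _ => by rw [linP_nil, linL_nil, ent_zero_left]
  | c :: M, P, h => by
    rw [linP_cons, linL_cons, ent_xor, ent_mul_ones hw (h c List.mem_cons_self) n P j hj,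
      ent_linP_aux hw hj M _ fun x hx => h x (List.mem_cons_of_mem _ hx), ← Nat.shiftRight_add, ← Nat.shiftRight_add,
      Nat.add_comm 1]

theorem linL_mod : ∀ (M : List ℕ) (w v : ℕ), M.length ≤ w → linL M (v % 2 ^ w) = linL M v
  | [], w, v, _ => rfl
  | c :: M, 0, v, h => by simp at h
  | c :: M, w + 1, v, h => by
    have h1 : v % 2 ^ (w + 1) &&& 1 = v &&& 1 := by
      rw [Nat.and_one_is_mod, Nat.and_one_is_mod, Nat.mod_mod_of_dvd]
      exact dvd_pow_self 2 (Nat.succ_ne_zero w)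
    have h2 : (v % 2 ^ (w + 1)) >>> 1 = (v >>> 1) % 2 ^ w := by
      rw [Nat.shiftRight_eq_div_pow, Nat.shiftRight_eq_div_pow, pow_one, Nat.pow_succ, Nat.mul_comm (2 ^ w) 2,
        Nat.mod_mul_right_div_self]
    rw [linL_cons, linL_cons, h1, h2, linL_mod M w _ (by simpa using h)]

/-- a matrix on vectors of `w` bits -/
def OkM (w : ℕ) (M : List ℕ) : Prop := M.length ≤ w ∧ ∀ c ∈ M, c < 2 ^ w

theorem OkM.nil (w : ℕ) : OkM w [] := ⟨Nat.zero_le _, fun c hc => absurd hc (List.not_mem_nil)⟩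

theorem ent_linP {w : ℕ} (hw : 0 < w) {n j : ℕ} (hj : j < n) {M : List ℕ} (hM : OkM w M) (P : ℕ) :
    ent w (linP (ones w n) M P) j = linL M (ent w P j) := by
  rw [ent_linP_aux hw hj M P hM.2, ent_eq, linL_mod M w _ hM.1]

theorem linL_lt' {w : ℕ} {M : List ℕ} (hM : OkM w M) (v : ℕ) : linL M v < 2 ^ w := linL_lt hM.2 v

/-! ### additive functions -/

theorem add_linL {f : ℕ → ℕ} (h0 : f 0 = 0) (hf : ∀ x y, f (x ^^^ y) = f x ^^^ f y) :
    ∀ (L : List ℕ) (v : ℕ), linL (L.map f) v = f (linL L v)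
  | [], _ => h0.symm
  | c :: L, v => by
    rw [List.map_cons, linL_cons, linL_cons, hf, add_linL h0 hf L]
    rcases and_one_cases v with h | h <;> rw [h]
    · rw [Nat.zero_mul, Nat.zero_mul, h0]
    · rw [Nat.one_mul, Nat.one_mul]

theorem add_ext {f g : ℕ → ℕ} (f0 : f 0 = 0) (hf : ∀ x y, f (x ^^^ y) = f x ^^^ f y) (g0 : g 0 = 0)
    (hg : ∀ x y, g (x ^^^ y) = g x ^^^ g y) {w : ℕ} (h : ∀ k < w, f (2 ^ k) = g (2 ^ k)) {v : ℕ} (hv : v < 2 ^ w) :
    f v = g v := by
  rw [← linL_idL hv, ← add_linL f0 hf, ← add_linL g0 hg]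
  congr 1
  refine List.map_congr_left fun c hc => ?_
  obtain ⟨k, hk, rfl⟩ := List.mem_map.1 hc
  exact h k (List.mem_range.1 hk)

/-! ### words of matrices -/

/-- the action of a word, the last letter acts first -/
noncomputable def actW (ms : List (List ℕ)) (ws : List ℕ) (v : ℕ) : ℕ :=
  List.rec v (fun x _ ih => linL (nthL ms x) ih) ws

theorem actW_nil (ms : List (List ℕ)) (v : ℕ) : actW ms [] v = v := rfl
theorem actW_cons (ms : List (List ℕ)) (x : ℕ) (ws : List ℕ) (v : ℕ) :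
    actW ms (x :: ws) v = linL (nthL ms x) (actW ms ws v) := rfl

theorem actW_zero (ms : List (List ℕ)) : ∀ ws, actW ms ws 0 = 0
  | [] => rfl
  | x :: ws => by rw [actW_cons, actW_zero ms ws, linL_zero]

theorem actW_xor (ms : List (List ℕ)) (x y : ℕ) : ∀ ws, actW ms ws (x ^^^ y) = actW ms ws x ^^^ actW ms ws y
  | [] => rfl
  | a :: ws => by rw [actW_cons, actW_cons, actW_cons, actW_xor ms x y ws, linL_xor]

/-- the same on all blocks -/
noncomputable def wP (on : ℕ) (ms : List (List ℕ)) (ws : List ℕ) (P : ℕ) : ℕ :=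
  List.rec P (fun x _ ih => force ih (linP on (nthL ms x))) ws

theorem wP_cons (on : ℕ) (ms : List (List ℕ)) (x : ℕ) (ws : List ℕ) (P : ℕ) :
    wP on ms (x :: ws) P = linP on (nthL ms x) (wP on ms ws P) := by
  show force (wP on ms ws P) (linP on (nthL ms x)) = _
  rw [force_eq]

theorem okM_nthL {w : ℕ} {ms : List (List ℕ)} (h : ∀ M ∈ ms, OkM w M) (x : ℕ) : OkM w (nthL ms x) := by
  rw [nthL_eq]
  rcases Nat.lt_or_ge x ms.length with hx | hx
  · rw [List.getD_eq_getElem _ _ hx]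
    exact h _ (List.getElem_mem hx)
  · rw [List.getD_eq_default _ _ hx]
    exact OkM.nil w

theorem ent_wP {w : ℕ} (hw : 0 < w) {n j : ℕ} (hj : j < n) {ms : List (List ℕ)} (h : ∀ M ∈ ms, OkM w M) (P : ℕ) :
    ∀ ws, ent w (wP (ones w n) ms ws P) j = actW ms ws (ent w P j)
  | [] => rfl
  | x :: ws => by rw [wP_cons, actW_cons, ent_linP hw hj (okM_nthL h x), ent_wP hw hj h P ws]

/-- equality of two words of matrices -/
theorem actW_eq {w : ℕ} (hw : 0 < w) {ms : List (List ℕ)} (h : ∀ M ∈ ms, OkM w M) {I : ℕ}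
    (hI : ∀ k < w, ent w I k = 2 ^ k) {u u' : List ℕ} (he : wP (ones w w) ms u I = wP (ones w w) ms u' I) {v : ℕ}
    (hv : v < 2 ^ w) : actW ms u v = actW ms u' v := by
  refine add_ext (actW_zero ms u) (fun x y => actW_xor ms x y u) (actW_zero ms u') (fun x y => actW_xor ms x y u')
    (fun k hk => ?_) hv
  rw [← hI k hk, ← ent_wP hw hk h, ← ent_wP hw hk h, he]

/-- the columns of a packed matrix -/
noncomputable def unp (w P : ℕ) : List ℕ := (List.range w).map fun k => ent w P k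

theorem linL_unp {w : ℕ} {f : ℕ → ℕ} (f0 : f 0 = 0) (hf : ∀ x y, f (x ^^^ y) = f x ^^^ f y) {P : ℕ}
    (hP : ∀ k < w, ent w P k = f (2 ^ k)) {v : ℕ} (hv : v < 2 ^ w) : linL (unp w P) v = f v := by
  have h : unp w P = (idL w).map f := by
    rw [unp, idL, List.map_map]
    refine List.map_congr_left fun k hk => ?_
    exact hP k (List.mem_range.1 hk)
  rw [h, add_linL f0 hf, linL_idL hv]

/-! ### bits as elements of `ZMod 2` -/

/-- bit `k` -/
def zb (v k : ℕ) : ZMod 2 := if v.testBit k = true then 1 else 0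

theorem zb_xor (a b k : ℕ) : zb (a ^^^ b) k = zb a k + zb b k := by
  unfold zb
  rw [Nat.testBit_xor]
  cases a.testBit k <;> cases b.testBit k <;> decide

theorem zb_zero (k : ℕ) : zb 0 k = 0 := by simp [zb]

theorem zb_inj {a b k l : ℕ} : zb a k = zb b l ↔ a.testBit k = b.testBit l := by
  unfold zb
  cases a.testBit k <;> cases b.testBit l <;> decide

theorem zb_and_one_mul (v c k : ℕ) : zb ((v &&& 1) * c) k = zb v 0 * zb c k := by
  have h : v.testBit 0 = decide (v &&& 1 = 1) := by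
    rw [Nat.testBit_zero, Nat.and_one_is_mod]
  rcases and_one_cases v with h' | h'
  · rw [h', Nat.zero_mul, zb_zero]
    unfold zb
    rw [h, h']
    simp
  · rw [h', Nat.one_mul]
    unfold zb
    rw [h, h']
    simp

theorem zb_shift (v k : ℕ) : zb (v >>> 1) k = zb v (k + 1) := by
  unfold zb
  rw [Nat.testBit_shiftRight, Nat.add_comm]

theorem zb_linL : ∀ (L : List ℕ) (v b : ℕ),
    zb (linL L v) b = ∑ k ∈ Finset.range L.length, zb v k * zb (L.getD k 0) b
  | [], v, b => by rw [linL_nil, zb_zero]; simp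
  | c :: L, v, b => by
    rw [linL_cons, zb_xor, zb_and_one_mul, zb_linL L, List.length_cons, Finset.sum_range_succ', add_comm]
    congr 1
    refine Finset.sum_congr rfl fun k _ => ?_
    rw [zb_shift]
    rfl

/-- additive functions in coordinates -/
theorem zb_add {f : ℕ → ℕ} (h0 : f 0 = 0) (hf : ∀ x y, f (x ^^^ y) = f x ^^^ f y) {w v : ℕ} (hv : v < 2 ^ w) (b : ℕ) :
    zb (f v) b = ∑ k ∈ Finset.range w, zb v k * zb (f (2 ^ k)) b := by
  conv_lhs => rw [← linL_idL hv, ← add_linL h0 hf]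
  rw [zb_linL]
  have hl : ((idL w).map f).length = w := by rw [List.length_map, idL, List.length_map, List.length_range]
  rw [hl]
  refine Finset.sum_congr rfl fun k hk => ?_
  have hk' : k < ((idL w).map f).length := by rw [hl]; exact Finset.mem_range.1 hk
  rw [List.getD_eq_getElem _ _ hk', List.getElem_map]
  congr 3
  simp [idL]

/-- the form `∑ u_k (f v)_k` -/
def bilf (w : ℕ) (f : ℕ → ℕ) (u v : ℕ) : ZMod 2 := ∑ k ∈ Finset.range w, zb u k * zb (f v) k

theorem bilf_symm {f : ℕ → ℕ} (h0 : f 0 = 0) (hf : ∀ x y, f (x ^^^ y) = f x ^^^ f y) {w : ℕ}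
    (hs : ∀ k < w, ∀ l < w, zb (f (2 ^ k)) l = zb (f (2 ^ l)) k) {u v : ℕ} (hu : u < 2 ^ w) (hv : v < 2 ^ w) :
    bilf w f u v = bilf w f v u := by
  have key : ∀ {a b : ℕ}, b < 2 ^ w → bilf w f a b =
      ∑ k ∈ Finset.range w, ∑ l ∈ Finset.range w, zb a k * (zb b l * zb (f (2 ^ l)) k) := by
    intro a b hb
    unfold bilf
    refine Finset.sum_congr rfl fun k _ => ?_
    rw [zb_add h0 hf hb, Finset.mul_sum]
  rw [key hv, key hu, Finset.sum_comm]
  refine Finset.sum_congr rfl fun k hk => Finset.sum_congr rfl fun l hl => ?_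
  rw [hs k (Finset.mem_range.1 hk) l (Finset.mem_range.1 hl)]
  ring

/-- an involution `m` such that `g m` is symmetric preserves the form `g` -/
theorem bilf_inv {g m : ℕ → ℕ} {w : ℕ} (g0 : g 0 = 0) (hg : ∀ x y, g (x ^^^ y) = g x ^^^ g y)
    (m0 : m 0 = 0) (hm : ∀ x y, m (x ^^^ y) = m x ^^^ m y) (hml : ∀ v, m v < 2 ^ w)
    (hgs : ∀ k < w, ∀ l < w, zb (g (2 ^ k)) l = zb (g (2 ^ l)) k)
    (hms : ∀ k < w, ∀ l < w, zb (g (m (2 ^ k))) l = zb (g (m (2 ^ l))) k) {u v : ℕ} (hu : u < 2 ^ w) (hv : v < 2 ^ w)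
    (hmu : m (m u) = u) : bilf w g (m u) (m v) = bilf w g u v := by
  have h1 : bilf w g (m u) (m v) = bilf w (fun x => g (m x)) (m u) v := rfl
  have h2 : bilf w (fun x => g (m x)) v (m u) = bilf w g v u := by
    unfold bilf
    simp only [hmu]
  rw [h1, bilf_symm (f := fun x => g (m x)) (by simp only [m0, g0]) (fun x y => by simp only [hm, hg]) hms (hml u) hv,
    h2, bilf_symm g0 hg hgs hv hu]

theorem eq_of_zb {w a b : ℕ} (ha : a < 2 ^ w) (hb : b < 2 ^ w) (h : ∀ k < w, zb a k = zb b k) : a = b := by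
  apply Nat.eq_of_testBit_eq
  intro k
  rcases Nat.lt_or_ge k w with hk | hk
  · exact zb_inj.1 (h k hk)
  · rw [Nat.testBit_eq_false_of_lt (lt_of_lt_of_le ha (Nat.pow_le_pow_right (by norm_num) hk)),
      Nat.testBit_eq_false_of_lt (lt_of_lt_of_le hb (Nat.pow_le_pow_right (by norm_num) hk))]

end Cfsg.Agent.H494.F22
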