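import Cfsg.Agent.H494.F22.RowChk
import Cfsg.Prelude.Def_Spor_Fi22

/-!
# `Fi22` on 3510 points: the permutations and the homomorphism (helper494)

`S x` (`x < 10`): the involutions given by the tables; `rho : Spor.Fi22 →* Perm (Fin 3510)`; `S_mem : S x ∈ Aut`.
-/

set_option autoImplicit false
set_option maxRecDepth 100000
set_option exponentiation.threshold 300000

namespace Cfsg.Agent.H494.F22

open Cfsg.Agent.H633.Ore (linL linL_zero linL_xor force force_eq ent nthL)
open Cfsg.Agent.H123.Cls (lk allN allN_iff band band_eq band_true)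
open Cfsg.Agent.Lib.BitNet (Aut)
open Cfsg.Agent.H494.F22.Dat

/-- the coordinates of a point -/
noncomputable def cd (i : ℕ) : ℕ := ent 78 T i

theorem cd_lt (i : ℕ) : cd i < 2 ^ 78 := ent_lt _ _ _

theorem cd_mono {a : ℕ} : ∀ {b : ℕ}, a < b → b < 3510 → cd (lk 12 ordT a) < cd (lk 12 ordT b) := by
  have h1 : ∀ b, b < 3509 → cd (lk 12 ordT b) < cd (lk 12 ordT (b + 1)) := by
    intro b hb
    have := (allN_iff _ _).1 ord_mono b hb
    exact Nat.blt_eq.mp this
  intro b hab hb
  induction b with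
  | zero => exact absurd hab (Nat.not_lt_zero a)
  | succ b ih =>
    have h2 := h1 b (by omega)
    rcases Nat.lt_succ_iff_lt_or_eq.1 hab with h | rfl
    · exact (ih h (by omega)).trans h2
    · exact h2

theorem cd_inj {i j : ℕ} (hi : i < 3510) (hj : j < 3510) (h : cd i = cd j) : i = j := by
  have h1 : ∀ b, b < 3510 → lk 12 ordT b < 3510 := by
    intro b hb
    have := (allN_iff _ _).1 ord_lt b hb
    simpa [Nat.blt_eq] using this
  let s : Fin 3510 → Fin 3510 := fun a => ⟨lk 12 ordT a, h1 a a.2⟩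
  have key : ∀ a b : Fin 3510, cd (s a) = cd (s b) → a = b := by
    intro a b hab
    rcases lt_trichotomy a b with h2 | h2 | h2
    · exact absurd hab (ne_of_lt (cd_mono h2 b.2))
    · exact h2
    · exact absurd hab (ne_of_gt (cd_mono h2 a.2))
  have hinj : Function.Injective s := fun a b hab => key a b (by rw [hab])
  have hsur : Function.Surjective s := Finite.injective_iff_surjective.1 hinj
  obtain ⟨a, ha⟩ := hsur ⟨i, hi⟩
  obtain ⟨b, hb⟩ := hsur ⟨j, hj⟩
  have h2 : a = b := key a b (by rw [ha, hb]; exact h)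
  have h3 : s a = s b := by rw [h2]
  rw [ha, hb] at h3
  exact congrArg Fin.val h3

/-! ### the permutations -/

/-- table of a letter -/
noncomputable def tb (x : ℕ) : ℕ := Cfsg.Agent.H123.Cls.nth tabs x

theorem tab_chk {x : ℕ} (hx : x < 10) : chkTab (tb x) (nthL ms x) = true := by
  interval_cases x
  · exact tab0
  · exact tab1
  · exact tab2
  · exact tab3
  · exact tab4
  · exact tab5
  · exact tab6
  · exact tab7
  · exact tab8
  · exact tab9

theorem mat_ok (x : ℕ) : OkM 78 (nthL ms x) := okM_nthL ms_okM x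

theorem lk_lt {x : ℕ} (hx : x < 10) {j : ℕ} (hj : j < 3510) : lk 12 (tb x) j < 3510 :=
  (tab_of_chk (mat_ok x) (tab_chk hx) hj).1

theorem cd_lk {x : ℕ} (hx : x < 10) {j : ℕ} (hj : j < 3510) : cd (lk 12 (tb x) j) = linL (nthL ms x) (cd j) :=
  (tab_of_chk (mat_ok x) (tab_chk hx) hj).2

theorem mat_sq {x : ℕ} (hx : x < 10) {v : ℕ} (hv : v < 2 ^ 78) : linL (nthL ms x) (linL (nthL ms x) v) = v :=
  actW_of_chk (sq_chk x hx) hv

theorem lk_lk {x : ℕ} (hx : x < 10) {j : ℕ} (hj : j < 3510) : lk 12 (tb x) (lk 12 (tb x) j) = j := by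
  refine cd_inj (lk_lt hx (lk_lt hx hj)) hj ?_
  rw [cd_lk hx (lk_lt hx hj), cd_lk hx hj, mat_sq hx (cd_lt j)]

/-- the permutation of a letter -/
noncomputable def S (x : ℕ) : Equiv.Perm (Fin 3510) :=
  if hx : x < 10 then
    { toFun := fun i => ⟨lk 12 (tb x) i, lk_lt hx i.2⟩
      invFun := fun i => ⟨lk 12 (tb x) i, lk_lt hx i.2⟩
      left_inv := fun i => Fin.ext (lk_lk hx i.2)
      right_inv := fun i => Fin.ext (lk_lk hx i.2) }
  else 1

theorem S_val {x : ℕ} (hx : x < 10) (i : Fin 3510) : (S x i : ℕ) = lk 12 (tb x) i := by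
  unfold S
  rw [dif_pos hx]
  rfl

theorem cd_S {x : ℕ} (hx : x < 10) (i : Fin 3510) : cd (S x i) = linL (nthL ms x) (cd i) := by
  rw [S_val hx, cd_lk hx i.2]

/-- the value of a word -/
noncomputable def wS (ws : List ℕ) : Equiv.Perm (Fin 3510) := (ws.map S).prod

theorem wS_nil : wS [] = 1 := rfl
theorem wS_cons (x : ℕ) (ws : List ℕ) : wS (x :: ws) = S x * wS ws := by simp [wS]
theorem wS_append (u v : List ℕ) : wS (u ++ v) = wS u * wS v := by simp [wS]

theorem wS_rp (m : ℕ) (u : List ℕ) : wS (rp m u) = wS u ^ m := by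
  induction m with
  | zero => rfl
  | succ m ih =>
    have e : rp (m + 1) u = u ++ rp m u := rfl
    rw [e, wS_append, ih, pow_succ']

theorem mem_rp {m x : ℕ} {u : List ℕ} (h : x ∈ rp m u) : x ∈ u := by
  induction m with
  | zero => exact absurd h (List.not_mem_nil)
  | succ m ih =>
    have e : rp (m + 1) u = u ++ rp m u := rfl
    rw [e, List.mem_append] at h
    exact h.elim id ih

theorem cd_wS : ∀ {ws : List ℕ}, (∀ x ∈ ws, x < 10) → ∀ i : Fin 3510, cd (wS ws i) = actW ms ws (cd i)
  | [], _, i => rfl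
  | x :: ws, h, i => by
    rw [wS_cons, Equiv.Perm.mul_apply, cd_S (h x List.mem_cons_self), cd_wS (fun y hy => h y (List.mem_cons_of_mem _ hy)),
      actW_cons]

theorem perm_ext {σ τ : Equiv.Perm (Fin 3510)} (h : ∀ i, cd (σ i) = cd (τ i)) : σ = τ :=
  Equiv.ext fun i => Fin.ext (cd_inj (σ i).2 (τ i).2 (h i))

theorem rel {u u' : List ℕ} (hu : ∀ x ∈ u, x < 10) (hu' : ∀ x ∈ u', x < 10) (h : chkRel (u, u') = true) :
    wS u = wS u' :=
  perm_ext fun i => by rw [cd_wS hu, cd_wS hu']; exact actW_of_chk h (cd_lt i)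

theorem S_mul_self {x : ℕ} (hx : x < 10) : S x * S x = 1 := by
  have h := rel (u := [x, x]) (u' := []) (by simp [hx]) (by simp) (sq_chk x hx)
  simpa [wS] using h

/-! ### the homomorphism -/

open Cfsg.Spor Cfsg.Spor.Fi22

/-- number of a generator -/
def ix : Gen → ℕ
  | .a => 0
  | .b => 1
  | .c => 2
  | .d => 3
  | .e => 4
  | .f => 5
  | .g => 6
  | .h => 7
  | .i => 8

theorem ix_lt (x : Gen) : ix x < 9 := by cases x <;> decide

theorem lab_ix (x y : Gen) : coxLabel edges x y = lab (ix x) (ix y) := by cases x <;> cases y <;> decide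

theorem cox_S (x y : Gen) : (S (ix x) * S (ix y)) ^ coxLabel edges x y = 1 := by
  have h := rel (u := rp (lab (ix x) (ix y)) [ix x, ix y]) (u' := [])
    (fun z hz => by
      have := mem_rp hz
      have h1 := ix_lt x
      have h2 := ix_lt y
      simp only [List.mem_cons, List.not_mem_nil, or_false] at this
      omega) (by simp) (cox_chk _ (ix_lt x) _ (ix_lt y))
  rw [wS_rp, ← lab_ix] at h
  simpa [wS] using h

theorem spider_S : (S 3 * S 2 * S 1 * S 3 * S 4 * S 5 * S 3 * S 7 * S 8) ^ 10 = 1 := by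
  have h := rel (u := rp 10 [3, 2, 1, 3, 4, 5, 3, 7, 8]) (u' := [])
    (fun z hz => by
      have := mem_rp hz
      simp only [List.mem_cons, List.not_mem_nil, or_false] at this
      omega) (by simp) spider_chk
  rw [wS_rp] at h
  simpa [wS, mul_assoc] using h

theorem e7a_S : (S 0 * S 1 * S 2 * S 3 * S 4 * S 5 * S 7) ^ 9 = 1 := by
  have h := rel (u := rp 9 [0, 1, 2, 3, 4, 5, 7]) (u' := [])
    (fun z hz => by
      have := mem_rp hz
      simp only [List.mem_cons, List.not_mem_nil, or_false] at this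
      omega) (by simp) e7a_chk
  rw [wS_rp] at h
  simpa [wS, mul_assoc] using h

theorem e7b_S : (S 1 * S 2 * S 3 * S 4 * S 5 * S 6 * S 7) ^ 9 = 1 := by
  have h := rel (u := rp 9 [1, 2, 3, 4, 5, 6, 7]) (u' := [])
    (fun z hz => by
      have := mem_rp hz
      simp only [List.mem_cons, List.not_mem_nil, or_false] at this
      omega) (by simp) e7b_chk
  rw [wS_rp] at h
  simpa [wS, mul_assoc] using h

theorem rels : ∀ r ∈ coxRelators edges ∪ {r | r ∈ extra}, FreeGroup.lift (fun x : Gen => S (ix x)) r = 1 := by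
  rintro r (⟨x, _, y, _, rfl⟩ | hr)
  · rw [map_pow, map_mul, FreeGroup.lift_apply_of, FreeGroup.lift_apply_of]
    exact cox_S x y
  · simp only [extra, Set.mem_setOf_eq, List.mem_cons, List.not_mem_nil, or_false] at hr
    rcases hr with rfl | rfl | rfl
    · simpa only [map_pow, map_mul, FreeGroup.lift_apply_of, ix] using spider_S
    · simpa only [map_pow, map_mul, FreeGroup.lift_apply_of, ix] using e7a_S
    · simpa only [map_pow, map_mul, FreeGroup.lift_apply_of, ix] using e7b_S

/-- **the representation of `Fi22` on 3510 points** -/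
noncomputable def rho : Spor.Fi22 →* Equiv.Perm (Fin 3510) := PresentedGroup.toGroup rels

theorem rho_of (x : Gen) : rho (PresentedGroup.of x) = S (ix x) := PresentedGroup.toGroup.of rels

/-- the image of `Fi22` -/
noncomputable def N : Subgroup (Equiv.Perm (Fin 3510)) := rho.range

theorem S_mem_N {x : ℕ} (hx : x < 9) : S x ∈ N := by
  have h : ∀ y : Gen, S (ix y) ∈ N := fun y => ⟨_, rho_of y⟩
  interval_cases x
  · exact h .a
  · exact h .b
  · exact h .c
  · exact h .d
  · exact h .e
  · exact h .f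
  · exact h .g
  · exact h .h
  · exact h .i

theorem N_le {H : Subgroup (Equiv.Perm (Fin 3510))} (h : ∀ x < 9, S x ∈ H) : N ≤ H := by
  rintro _ ⟨g, rfl⟩
  have h1 : Subgroup.closure (Set.range (PresentedGroup.of (rels := coxRelators edges ∪ {r | r ∈ extra}))) ≤
      H.comap rho := by
    rw [Subgroup.closure_le]
    rintro _ ⟨x, rfl⟩
    change rho (PresentedGroup.of x) ∈ H
    rw [rho_of]
    exact h _ (ix_lt x)
  rw [PresentedGroup.closure_range_of] at h1
  exact h1 (Subgroup.mem_top g)

/-- the tables of the nine generators -/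
noncomputable def gens : List ℕ := [t0, t1, t2, t3, t4, t5, t6, t7, t8]

theorem gens_tb {x : ℕ} (hx : x < 9) : Cfsg.Agent.H123.Cls.nth gens x = tb x := by
  interval_cases x <;> rfl

theorem gens_ok : Cfsg.Agent.H123.Cls.Tabs 12 N gens := by
  intro x hx
  have hx' : x < 9 := hx
  exact ⟨S x, S_mem_N hx', fun p => by rw [gens_tb hx', S_val (by omega)]⟩

/-! ### the swap -/

/-- the permutation induced by the diagram swap -/
noncomputable def tau : Equiv.Perm (Fin 3510) := S 9

theorem tau_sq : tau * tau = 1 := S_mul_self (by norm_num)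

theorem tau_inv : tau⁻¹ = tau := inv_eq_of_mul_eq_one_left tau_sq

theorem tau_conj {x : ℕ} (hx : x < 9) : tau * S x * tau⁻¹ = S (sw x) := by
  have hs : sw x < 9 := by revert x; decide
  have h := rel (u := [9, x, 9]) (u' := [sw x])
    (fun z hz => by
      simp only [List.mem_cons, List.not_mem_nil, or_false] at hz
      omega)
    (fun z hz => by
      simp only [List.mem_cons, List.not_mem_nil, or_false] at hz
      omega) (tau_chk x hx)
  rw [tau_inv, mul_assoc]
  simpa [wS, tau] using h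

/-! ### the graph -/

theorem trc_spec (TC : ℕ) : ∀ (L : List ℕ) (k0 : ℕ), trc TC L k0 = true → ∀ k < L.length, ∀ j < 3510,
    TC.testBit (78 * j + (k0 + k)) = (L.getD k 0).testBit j
  | [], _, _, k, hk => absurd hk (Nat.not_lt_zero k)
  | m :: L, k0, h, k, hk => by
    have e : trc TC (m :: L) k0 = band
      (allN (fun j => Nat.beq (Nat.land (Nat.shiftRight TC (Nat.add (Nat.mul 78 j) k0)) 1)
        (Nat.land (Nat.shiftRight m j) 1)) 3510) (trc TC L (k0 + 1)) := rfl
    rw [e] at h
    obtain ⟨h1, h2⟩ := band_true h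
    cases k with
    | zero =>
      intro j hj
      have h3 := Nat.eq_of_beq_eq_true ((allN_iff _ _).1 h1 j hj)
      change (TC >>> (78 * j + k0)) &&& 1 = (m >>> j) &&& 1 at h3
      rw [Nat.and_one_is_mod, Nat.and_one_is_mod] at h3
      rw [Nat.add_zero]
      change TC.testBit (78 * j + k0) = m.testBit j
      have a1 : TC.testBit (78 * j + k0) = decide ((TC >>> (78 * j + k0)) % 2 = 1) := by
        rw [← Nat.testBit_zero, Nat.testBit_shiftRight, Nat.add_zero]
      have a2 : m.testBit j = decide ((m >>> j) % 2 = 1) := by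
        rw [← Nat.testBit_zero, Nat.testBit_shiftRight, Nat.add_zero]
      rw [a1, a2, h3]
    | succ k =>
      intro j hj
      have h3 := trc_spec TC L (k0 + 1) h2 k (by simpa using hk) j hj
      rw [show k0 + (k + 1) = k0 + 1 + k by ring]
      exact h3

/-- bit of a block -/
theorem testBit_ent {w T j k : ℕ} (hk : k < w) : (ent w T j).testBit k = T.testBit (w * j + k) := by
  rw [ent_eq, Nat.testBit_mod_two_pow, Nat.testBit_shiftRight]
  simp [hk]

theorem linG_lt (v : ℕ) : linL G v < 2 ^ 78 := linL_lt' G_ok v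

theorem Mk_bit {k : ℕ} (hk : k < 78) {j : ℕ} (hj : j < 3510) : (Mk.getD k 0).testBit j = (linL G (cd j)).testBit k := by
  have h := Mk_chk
  rw [force_eq] at h
  have h1 := trc_spec _ _ _ h k (by rw [Mk_len]; exact hk) j hj
  rw [← h1, Nat.zero_add, ← testBit_ent hk, onesF_eq (by norm_num), ent_linP (by norm_num) hj G_ok]
  rfl

/-- rows and the form -/
theorem zb_row {i j : ℕ} (hi : i < 3510) (hj : j < 3510) : zb (Row.row i) j = bilf 78 (linL G) (cd i) (cd j) := by
  rw [row_eq hi, zb_linL, Mk_len]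
  unfold bilf
  refine Finset.sum_congr rfl fun k hk => ?_
  congr 1
  exact zb_inj.2 (Mk_bit (Finset.mem_range.1 hk) hj)

theorem symP_spec {Q : ℕ} (h : symP Q = true) {k l : ℕ} (hk : k < 78) (hl : l < 78) :
    Q.testBit (78 * k + l) = Q.testBit (78 * l + k) := by
  have h1 := (allN_iff _ _).1 ((allN_iff _ _).1 h k hk) l hl
  have h3 := Nat.eq_of_beq_eq_true h1
  change (Q >>> (78 * k + l)) &&& 1 = (Q >>> (78 * l + k)) &&& 1 at h3
  rw [Nat.and_one_is_mod, Nat.and_one_is_mod] at h3
  have a : ∀ b : ℕ, Q.testBit b = decide ((Q >>> b) % 2 = 1) := by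
    intro b
    rw [← Nat.testBit_zero, Nat.testBit_shiftRight, Nat.add_zero]
  rw [a, a, h3]

theorem G_sym : ∀ k < 78, ∀ l < 78, zb (linL G (2 ^ k)) l = zb (linL G (2 ^ l)) k := by
  have h := sym_G
  rw [force_eq, onesF_eq (by norm_num)] at h
  have key : ∀ k < 78, ∀ l < 78, (linL G (2 ^ k)).testBit l = (linP (ones 78 78) G I78).testBit (78 * k + l) := by
    intro k hk l hl
    rw [← testBit_ent hl, ent_linP (by norm_num) hk G_ok, ent_I78 hk]
  intro k hk l hl
  rw [zb_inj, key k hk l hl, key l hl k hk, symP_spec h hk hl]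

theorem GM_sym {M : List ℕ} (hM : OkM 78 M) (h : chkSym M = true) :
    ∀ k < 78, ∀ l < 78, zb (linL G (linL M (2 ^ k))) l = zb (linL G (linL M (2 ^ l))) k := by
  unfold chkSym at h
  rw [force_eq, force_eq, force_eq, onesF_eq (by norm_num)] at h
  have key : ∀ k < 78, ∀ l < 78, (linL G (linL M (2 ^ k))).testBit l =
      (linP (ones 78 78) G (linP (ones 78 78) M I78)).testBit (78 * k + l) := by
    intro k hk l hl
    rw [← testBit_ent hl, ent_linP (by norm_num) hk G_ok, ent_linP (by norm_num) hk hM, ent_I78 hk]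
  intro k hk l hl
  rw [zb_inj, key k hk l hl, key l hl k hk, symP_spec h hk hl]

theorem sym_chk {x : ℕ} (hx : x < 10) : chkSym (nthL ms x) = true := by
  interval_cases x
  · exact sym0
  · exact sym1
  · exact sym2
  · exact sym3
  · exact sym4
  · exact sym5
  · exact sym6
  · exact sym7
  · exact sym8
  · exact sym9

theorem form_inv {x : ℕ} (hx : x < 10) {u v : ℕ} (hu : u < 2 ^ 78) (hv : v < 2 ^ 78) :
    bilf 78 (linL G) (linL (nthL ms x) u) (linL (nthL ms x) v) = bilf 78 (linL G) u v :=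
  bilf_inv (linL_zero G) (linL_xor G) (linL_zero _) (linL_xor _) (fun v => linL_lt' (mat_ok x) v) G_sym
    (GM_sym (mat_ok x) (sym_chk hx)) hu hv (mat_sq hx hu)

/-- the permutations are automorphisms of the graph -/
theorem S_mem {x : ℕ} (hx : x < 10) : S x ∈ Aut 3510 Row.row := by
  intro i j
  rw [← zb_inj, zb_row (S x i).2 (S x j).2, zb_row i.2 j.2, cd_S hx, cd_S hx, form_inv hx (cd_lt _) (cd_lt _)]

theorem N_le_Aut : N ≤ Aut 3510 Row.row := N_le fun _ hx => S_mem (by omega)

/-- `Fi22 : 2` -/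
noncomputable def A : Subgroup (Equiv.Perm (Fin 3510)) := N ⊔ Subgroup.zpowers tau

theorem N_le_A : N ≤ A := le_sup_left

theorem tau_mem_A : tau ∈ A := Subgroup.mem_sup_right (Subgroup.mem_zpowers _)

/-- **`A` acts on the graph** -/
theorem A_le_Aut : A ≤ Aut 3510 Row.row := by
  refine sup_le N_le_Aut ?_
  rw [Subgroup.zpowers_le]
  exact S_mem (by norm_num)

theorem tau_conj_mem {n : Equiv.Perm (Fin 3510)} (hn : n ∈ N) : tau * n * tau⁻¹ ∈ N := by
  have h : N ≤ N.comap (MulAut.conj tau).toMonoidHom := N_le fun x hx => by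
    change tau * S x * tau⁻¹ ∈ N
    rw [tau_conj hx]
    exact S_mem_N (by revert x; decide)
  exact h hn

/-- **`A` normalizes `N`** -/
theorem A_conj {a n : Equiv.Perm (Fin 3510)} (ha : a ∈ A) (hn : n ∈ N) : a * n * a⁻¹ ∈ N := by
  have h : A ≤ Subgroup.normalizer (N : Set (Equiv.Perm (Fin 3510))) := by
    refine sup_le Subgroup.le_normalizer ?_
    rw [Subgroup.zpowers_le, Subgroup.mem_normalizer_iff]
    intro g
    refine ⟨fun hg => tau_conj_mem hg, fun hg => ?_⟩
    have h1 := tau_conj_mem hg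
    rw [tau_inv] at h1
    have h3 : tau * (tau * g * tau) * tau = g := by
      calc tau * (tau * g * tau) * tau = (tau * tau) * g * (tau * tau) := by group
        _ = g := by rw [tau_sq]; group
    rwa [h3] at h1
  exact (Subgroup.mem_normalizer_iff.1 (h ha) n).1 hn

end Cfsg.Agent.H494.F22
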