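import Cfsg.Agent.H494.F22.Rep
import Cfsg.Agent.H833.Flip
import Cfsg.Agent.R01.Fi22Facts

/-!
# `Fi22` on 3510 points: the orders (helper494)
-/

set_option autoImplicit false
set_option maxRecDepth 100000
set_option exponentiation.threshold 300000

namespace Cfsg.Agent.H494.F22

open Cfsg.Spor Cfsg.Spor.Fi22
open Cfsg.Agent.Fischer.Fi22PtsRep (gen closure_gen)
open Cfsg.Agent.R01.AlphaIso (flip)
open Cfsg.Agent.H833.Flip (flipA flipA_gen flipA_ne_conj)

theorem rho_gen (x : Gen) : rho (gen x) = S (ix x) := rho_of x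

theorem S0_ne : S 0 ≠ 1 := by
  intro h
  have h1 : (S 0 (⟨1, by norm_num⟩ : Fin 3510) : ℕ) = 1 := by rw [h]; rfl
  rw [S_val (by norm_num)] at h1
  have h2 : Cfsg.Agent.H123.Cls.lk 12 Dat.t0 1 = 14 := by decide +kernel
  have h3 : Cfsg.Agent.H123.Cls.lk 12 (tb 0) 1 = 14 := h2
  have h4 : (14 : ℕ) = 1 := h3.symm.trans h1
  omega

/-- **`rho` is injective** -/
theorem rho_injective : Function.Injective rho := by
  haveI : IsSimpleGroup Spor.Fi22 := Cfsg.Agent.R01.Fi22Facts.isSimple
  rw [← MonoidHom.ker_eq_bot_iff]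
  rcases IsSimpleGroup.eq_bot_or_eq_top_of_normal rho.ker inferInstance with h | h
  · exact h
  · exfalso
    apply S0_ne
    have h1 : gen .a ∈ rho.ker := h ▸ Subgroup.mem_top _
    rw [MonoidHom.mem_ker, rho_gen] at h1
    exact h1

theorem card_N : Nat.card N = 64561751654400 := by
  rw [← Cfsg.Agent.Fischer.Fi22Order.card_fi22]
  exact Nat.card_congr (MonoidHom.ofInjective rho_injective).toEquiv.symm

theorem ix_flip (x : Gen) : ix (flip x) = sw (ix x) := by cases x <;> rfl

theorem tau_notMem : tau ∉ N := by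
  rintro ⟨t, ht⟩
  refine flipA_ne_conj t ?_
  have h : (flipA : MulAut Spor.Fi22).toMonoidHom = (MulAut.conj t : MulAut Spor.Fi22).toMonoidHom := by
    apply PresentedGroup.ext
    intro x
    change flipA (gen x) = t * gen x * t⁻¹
    rw [flipA_gen]
    apply rho_injective
    rw [rho_gen, map_mul, map_mul, map_inv, rho_gen, ht, tau_conj (ix_lt x), ix_flip]
  exact MulEquiv.ext fun g => DFunLike.congr_fun h g

/-- **`|Fi22 : 2|`** -/
theorem card_A : 2 * 64561751654400 ≤ Nat.card A := by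
  have h1 : Nat.card N ∣ Nat.card A := Subgroup.card_dvd_of_le N_le_A
  obtain ⟨k, hk⟩ := h1
  have h0 : 0 < Nat.card A := Nat.card_pos
  have h2 : k ≠ 0 := by
    rintro rfl
    omega
  have h3 : k ≠ 1 := by
    rintro rfl
    apply tau_notMem
    have h4 : N = A := Subgroup.eq_of_le_of_card_ge N_le_A (by rw [hk, mul_one])
    rw [h4]
    exact tau_mem_A
  rw [hk, card_N, mul_comm]
  exact Nat.mul_le_mul_left _ (by omega)

/-- elements of `A` induce automorphisms of `Fi22` -/
theorem exists_aut {a : Equiv.Perm (Fin 3510)} (ha : a ∈ A) :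
    ∃ θ : MulAut Spor.Fi22, ∀ g : Spor.Fi22, rho (θ g) = a * rho g * a⁻¹ := by
  have h1 : ∀ b ∈ A, ∀ g : Spor.Fi22, ∃ g' : Spor.Fi22, rho g' = b * rho g * b⁻¹ :=
    fun b hb g => A_conj hb ⟨g, rfl⟩
  choose f hf using h1 a ha
  choose f' hf' using h1 a⁻¹ (A.inv_mem ha)
  refine ⟨{ toFun := f, invFun := f', left_inv := fun g => ?_, right_inv := fun g => ?_, map_mul' := fun g k => ?_ },
    hf⟩
  · apply rho_injective
    rw [hf', hf]
    group
  · apply rho_injective
    rw [hf, hf']
    group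
  · apply rho_injective
    rw [hf, map_mul, map_mul, hf, hf]
    group

end Cfsg.Agent.H494.F22
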