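import Cfsg.Agent.H494.F22.Chk
import Cfsg.Agent.H494.F22.Row

/-!
# `Fi22` on 3510 points: the rows of the graph (helper494)
-/

set_option autoImplicit false
set_option maxRecDepth 100000
set_option exponentiation.threshold 300000

namespace Cfsg.Agent.H494.F22

open Cfsg.Agent.H633.Ore (linL force force_eq ent nthL)
open Cfsg.Agent.H123.Cls (lk allN allN_iff band band_eq band_true)
open Cfsg.Agent.H494.F22.Dat

theorem row_chk : force T (fun T => allN (fun p => Nat.beq (Row.row p) (linL Mk (ent 78 T p))) 3510) = true := by
  decide +kernel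

theorem row_eq {p : ℕ} (hp : p < 3510) : Row.row p = linL Mk (ent 78 T p) := by
  have h := row_chk
  rw [force_eq] at h
  exact Nat.eq_of_beq_eq_true ((allN_iff _ _).1 h p hp)

end Cfsg.Agent.H494.F22
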